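import Groth.Agent.SchTorsor.Point
import Groth.Agent.MorLib.BddFib
import Groth.Agent.S18860
import Mathlib.Algebra.CharP.Frobenius
import Mathlib.Algebra.CharP.Lemmas

/-!
# Torsors under connected finite groups have points after a Frobenius
-/

universe u

open CategoryTheory MonoidalCategory CartesianMonoidalCategory MonObj AlgebraicGeometry
open CategoryTheory.Limits

set_option linter.style.haveILetI false
set_option backward.isDefEq.respectTransparency false
set_option backward.isDefEq.respectTransparency.types false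

namespace Groth.Agent.H9TorsFrob

/-- A torsor has the rank of the group. -/
theorem finrank_eq {S : Scheme.{u}} {G X : Over S} [GrpObj G] {a : AlgGrp.Action G X}
    (ha : NonAbH1.IsPseudoTorsorSch a) [IsFinite G.hom] [Flat G.hom] [IsFinite X.hom] [Flat X.hom] (x : X.left) :
    X.hom.finrank (X.hom x) = G.hom.finrank (X.hom x) := by
  haveI : IsIso (lift a.act (snd G X)) := ha
  haveI : IsIso (lift a.act (snd G X)).left := inferInstanceAs (IsIso ((Over.forget S).map (lift a.act (snd G X))))
  have hcomp : (lift a.act (snd G X)).left ≫ pullback.snd X.hom X.hom = pullback.snd G.hom X.hom :=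
    congrArg CommaMorphism.left (lift_snd a.act (snd G X))
  haveI : IsFinite (pullback.snd X.hom X.hom) := MorphismProperty.pullback_snd _ _ inferInstance
  haveI : Flat (pullback.snd X.hom X.hom) := MorphismProperty.pullback_snd _ _ inferInstance
  have h := congrFun (Scheme.Hom.finrank_comp_left_of_isIso (lift a.act (snd G X)).left (pullback.snd X.hom X.hom)) x
  simp only [hcomp] at h
  rw [← Scheme.Hom.finrank_pullback_snd X.hom X.hom, ← Scheme.Hom.finrank_pullback_snd G.hom X.hom]
  exact h.symm

/-- A finite purely inseparable extension of degree at most `n` maps to the base by the `n`-th Frobenius. -/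
theorem exists_frobenius_retraction (K : Type u) [Field K] (L : Type u) [Field L] [Algebra K L]
    [IsPurelyInseparable K L] [FiniteDimensional K L] (p : ℕ) [ExpChar K p] (n : ℕ)
    (hn : Module.finrank K L ≤ n) :
    ∃ ψ : L →+* K, ψ.comp (algebraMap K L) = iterateFrobenius K p n := by
  haveI : ExpChar L p := expChar_of_injective_ringHom (algebraMap K L).injective p
  have hmem : ∀ x : L, ∃ y : K, algebraMap K L y = x ^ p ^ n := fun x => by
    obtain ⟨e, y, he⟩ := IsPurelyInseparable.minpoly_eq_X_pow_sub_C K p x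
    have hx : x ^ p ^ e = algebraMap K L y := by
      have h := minpoly.aeval K x
      rwa [he, map_sub, map_pow, Polynomial.aeval_X, Polynomial.aeval_C, sub_eq_zero] at h
    rcases eq_or_ne p 1 with rfl | hp1
    · exact ⟨y, by rw [one_pow, ← one_pow e]; exact hx.symm⟩
    have hp : 1 < p := lt_of_le_of_ne (expChar_pos K p) (Ne.symm hp1)
    have hen : e ≤ n := by
      have h1 : p ^ e ≤ n := by
        refine le_trans (le_of_eq ?_) ((minpoly.natDegree_le x).trans hn)
        rw [he, Polynomial.natDegree_X_pow_sub_C]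
      exact (Nat.lt_pow_self hp).le.trans h1
    refine ⟨y ^ p ^ (n - e), ?_⟩
    rw [map_pow, ← hx, ← pow_mul, ← pow_add, Nat.add_sub_cancel' hen]
  choose f hf using hmem
  refine ⟨{ toFun := f, map_one' := ?_, map_mul' := fun a b => ?_, map_zero' := ?_, map_add' := fun a b => ?_ }, ?_⟩
  · exact (algebraMap K L).injective (by rw [hf, one_pow, map_one])
  · exact (algebraMap K L).injective (by rw [hf, map_mul, hf, hf, mul_pow])
  · exact (algebraMap K L).injective (by rw [hf, map_zero, zero_pow (pow_ne_zero _ (expChar_pos K p).ne')])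
  · exact (algebraMap K L).injective (by rw [hf, map_add, hf, hf, add_pow_expChar_pow])
  · refine RingHom.ext fun c => (algebraMap K L).injective ?_
    change algebraMap K L (f (algebraMap K L c)) = algebraMap K L (iterateFrobenius K p n c)
    rw [hf, iterateFrobenius_def, map_pow]

theorem hasSectionOver_iterateFrobenius {K : Type u} [Field K] (p : ℕ) [ExpChar K p]
    (G : Over (Spec (CommRingCat.of K))) [GrpObj G] [IsFinite G.hom] [ConnectedSpace G.left] :
    ∃ n : ℕ, ∀ (X : Over (Spec (CommRingCat.of K))) (a : AlgGrp.Action G X),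
      NonAbH1.IsTorsorFor Scheme.fppfPrecoverage a →
        NonAbH1.HasSectionOver X (Spec.map (CommRingCat.ofHom (iterateFrobenius K p n))) := by
  have hK : IsField (CommRingCat.of K) := Field.toIsField K
  let pt : Spec (CommRingCat.of K) := IsLocalRing.closedPoint K
  refine ⟨G.hom.finrank pt, fun X a ha => ?_⟩
  have hle := Scheme.fppfPrecoverage_le_fpqcPrecoverage
  have ha' : NonAbH1.IsTorsorFor Scheme.fpqcPrecoverage a :=
    ⟨ha.1, ha.2.choose, hle _ ha.2.choose_spec.1, ha.2.choose_spec.2⟩
  haveI : IsFinite X.hom := (S18860.result a ha').2.2.1 inferInstance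
  haveI := SchTorsor.universallyInjective_hom ha'
  haveI := SchTorsor.surjective_hom ha'
  haveI : Flat G.hom := MorLib.BF.flat_to_field hK _
  haveI : Flat X.hom := MorLib.BF.flat_to_field hK _
  haveI : IsAffine X.left := isAffine_of_isAffineHom X.hom
  obtain ⟨x, hx⟩ := X.hom.surjective pt
  let φ : CommRingCat.of K ⟶ Γ(X.left, ⊤) := (Scheme.ΓSpecIso (CommRingCat.of K)).inv ≫ X.hom.appTop
  have e := MorLib.BF.eq_isoSpec_hom_comp X.hom
  have h2 : IsFinite (Spec.map φ) := by
    have : IsFinite (X.left.isoSpec.inv ≫ X.hom) := inferInstance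
    rwa [e, Iso.inv_hom_id_assoc] at this
  have hfin : φ.hom.Finite := (IsFinite.SpecMap_iff φ).mp h2
  haveI : Flat (Spec.map φ) := MorLib.BF.flat_to_field hK _
  haveI : IsFinite (Spec.map φ) := h2
  letI : Algebra K Γ(X.left, ⊤) := φ.hom.toAlgebra
  haveI : Module.Finite K Γ(X.left, ⊤) := hfin
  have hrk : Module.finrank K Γ(X.left, ⊤) = G.hom.finrank pt := by
    rw [← hx, ← finrank_eq ha.1 x]
    refine (MorLib.BF.finrank_SpecMap_of_isField hK φ hfin (X.hom x)).symm.trans ?_
    rw [← Scheme.Hom.finrank_comp_left_of_isIso X.left.isoSpec.hom (Spec.map φ), ← e]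
  haveI : IsArtinianRing Γ(X.left, ⊤) := IsArtinianRing.of_finite K _
  let P : Ideal Γ(X.left, ⊤) := (show PrimeSpectrum Γ(X.left, ⊤) from X.left.isoSpec.hom x).asIdeal
  haveI : P.IsPrime := (show PrimeSpectrum Γ(X.left, ⊤) from X.left.isoSpec.hom x).isPrime
  haveI : P.IsMaximal := IsArtinianRing.isMaximal_of_isPrime P
  letI : Field (Γ(X.left, ⊤) ⧸ P) := Ideal.Quotient.field P
  let L := Γ(X.left, ⊤) ⧸ P
  haveI : FiniteDimensional K L := Module.Finite.of_surjective (Ideal.Quotient.mkₐ K P).toLinearMap Ideal.Quotient.mk_surjective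
  let pts (Ω : Type u) [Field Ω] (σ : L →+* Ω) : Spec (CommRingCat.of Ω) ⟶ X.left :=
    Spec.map (CommRingCat.ofHom (σ.comp (Ideal.Quotient.mk P))) ≫ X.left.isoSpec.inv
  have hpts : ∀ (Ω : Type u) [Field Ω] (σ : L →+* Ω),
      pts Ω σ ≫ X.hom = Spec.map (CommRingCat.ofHom (σ.comp (algebraMap K L))) := fun Ω _ σ => by
    simp only [pts]
    rw [Category.assoc, show X.left.isoSpec.inv ≫ X.hom = Spec.map φ from
      (congrArg (fun z => X.left.isoSpec.inv ≫ z) e).trans (Iso.inv_hom_id_assoc _ _), ← Spec.map_comp]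
    rfl
  haveI : IsPurelyInseparable K L := by
    rw [isPurelyInseparable_iff_finSepDegree_eq_one]
    haveI : Subsingleton (Field.Emb K L) := ⟨fun σ τ => by
      have hinj := ((tfae_universallyInjective X.hom).out 0 1 rfl rfl).1 inferInstance (AlgebraicClosure L)
      have h : pts _ σ.toRingHom = pts _ τ.toRingHom := hinj (by
        change pts _ σ.toRingHom ≫ X.hom = pts _ τ.toRingHom ≫ X.hom
        rw [hpts, hpts]
        exact congrArg (fun z => Spec.map (CommRingCat.ofHom z)) (σ.comp_algebraMap.trans τ.comp_algebraMap.symm))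
      have h' := Spec.map_injective ((cancel_mono X.left.isoSpec.inv).1 h)
      refine AlgHom.ext fun l => ?_
      obtain ⟨b, rfl⟩ := Ideal.Quotient.mk_surjective l
      exact congr($h' b)⟩
    exact Nat.card_unique
  obtain ⟨ψ, hψ⟩ := exists_frobenius_retraction K L p (G.hom.finrank pt)
    (hrk ▸ LinearMap.finrank_le_finrank_of_surjective (f := (Ideal.Quotient.mkₐ K P).toLinearMap) Ideal.Quotient.mk_surjective)
  refine ⟨pts K ψ, ?_⟩
  rw [hpts, hψ]

end Groth.Agent.H9TorsFrob
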